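/-
The Netto triple systems have few automorphisms.

* `third` : the third point on the line of two points
* `no_triangle_transitive` : for `p ≠ 3, 7` the automorphisms are not transitive on triangles
-/
import Mathlib
import Cfsg.Agent.EqLemmas

namespace Cfsg.Agent.Perm.HalfPrimitive

variable {p : ℕ} [Fact p.Prime]

open scoped Classical in
/-- The third point of the line through two points (the point itself for equal arguments). -/
noncomputable def third (t x y : ZMod p) : ZMod p :=
  if IsSquare (y - x) then x + t * (y - x) else x + (1 - t) * (y - x)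

theorem third_pos {t x y : ZMod p} (h : quadraticChar (ZMod p) (y - x) = 1) :
    third t x y = x + t * (y - x) := by
  have h0 : y - x ≠ 0 := fun e => by simp [e] at h
  rw [third, if_pos ((quadraticChar_one_iff_isSquare h0).mp h)]

theorem third_neg {t x y : ZMod p} (h : quadraticChar (ZMod p) (y - x) = -1) :
    third t x y = x + (1 - t) * (y - x) := by
  rw [third, if_neg (quadraticChar_neg_one_iff_not_isSquare.mp h)]

/-- The automorphisms of a Netto system on more than seven points do not act transitively on the
triangles. -/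
theorem no_triangle_transitive (hp2 : p ≠ 2) (hp3 : p ≠ 3) (hp7 : p ≠ 7) (t : ZMod p)
    (ht : t * t = t - 1) (htn : ¬ IsSquare t) (hn : ¬ IsSquare (-1 : ZMod p))
    (htr : ∀ c c' : ZMod p, c ≠ 0 → c ≠ 1 → c ≠ t → c' ≠ 0 → c' ≠ 1 → c' ≠ t →
      ∃ g : ZMod p → ZMod p, (∀ x y, g (third t x y) = third t (g x) (g y)) ∧
        g 0 = 0 ∧ g 1 = 1 ∧ g c = c') : False := by
  have hp := (Fact.out : p.Prime)
  have nat0 : ∀ n : ℕ, n.Prime → p ≠ n → (n : ZMod p) ≠ 0 := fun n hn hne e => by
    rw [ZMod.natCast_eq_zero_iff, Nat.prime_dvd_prime_iff_eq hp hn] at e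
    exact hne e
  have h2 : (2 : ZMod p) ≠ 0 := by exact_mod_cast nat0 2 Nat.prime_two hp2
  have h3 : (3 : ZMod p) ≠ 0 := by exact_mod_cast nat0 3 Nat.prime_three hp3
  have h7 : (7 : ZMod p) ≠ 0 := by exact_mod_cast nat0 7 (by norm_num) hp7
  have hw : (1 : ZMod p) + t ≠ 0 := fun e => h3 (by linear_combination ht + (2 - t) * e)
  have ht0 : t ≠ 0 := fun e => htn (e ▸ IsSquare.zero)
  let χ := quadraticChar (ZMod p)
  -- the values of the character
  have cn : χ (-1) = -1 := quadraticChar_neg_one_iff_not_isSquare.mpr hn
  have ct : χ t = -1 := quadraticChar_neg_one_iff_not_isSquare.mpr htn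
  have cu : χ (t - 1) = 1 := by rw [← ht, map_mul, ct]; norm_num
  have csq : ∀ x : ZMod p, x ≠ 0 → χ (x * x) = 1 := fun x hx => by
    rw [← sq]
    exact quadraticChar_sq_one' hx
  have c11 : χ 1 = 1 := map_one _
  have cs : χ ((2 * t - 1) * (2 * t - 1)) = 1 :=
    csq _ fun e => mul_ne_zero ht0 hw (by linear_combination ht + e)
  obtain ⟨σ, hσ⟩ : ∃ σ : ℤ, χ 2 = σ := ⟨_, rfl⟩
  obtain ⟨τ, hτ⟩ : ∃ τ : ℤ, χ (1 + t) = τ := ⟨_, rfl⟩
  have d1 : χ (2 * (t - 1)) = σ := by rw [map_mul, hσ, cu, mul_one]
  have d2 : χ (-1 * 2) = -σ := by rw [map_mul, cn, hσ]; ring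
  have d3 : χ (t * (1 + t)) = -τ := by rw [map_mul, ct, hτ]; ring
  have d4 : χ (-1 * (t * (1 + t))) = τ := by rw [map_mul, cn, d3]; ring
  have d5 : χ ((t - 1) * (1 + t)) = τ := by rw [map_mul, cu, hτ, one_mul]
  have d6 : χ (-1 * ((t - 1) * (1 + t))) = -τ := by rw [map_mul, cn, d5]; ring
  have d7 : χ (t * 2) = -σ := by rw [map_mul, ct, hσ]; ring
  have d8 : χ (-1 * (1 + t)) = -τ := by rw [map_mul, cn, hτ]; ring
  have d9 : χ (-1 * t) = 1 := by rw [map_mul, cn, ct]; norm_num
  have d10 : χ (-1 * (t - 1)) = -1 := by rw [map_mul, cn, cu]; norm_num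
  have d11 : χ (-1 * ((2 * t - 1) * (2 * t - 1))) = -1 := by rw [map_mul, cn, cs]; norm_num
  have d12 : χ (t * ((2 * t - 1) * (2 * t - 1))) = -1 := by rw [map_mul, ct, cs]; norm_num
  have d13 : χ ((t - 1) * ((2 * t - 1) * (2 * t - 1))) = 1 := by rw [map_mul, cu, cs]; norm_num
  have P : ∀ {x y d v : ZMod p}, y - x = d → χ d = 1 → x + t * d = v → third t x y = v :=
    fun {x y d v} e h hv => by rw [third_pos (by rw [e]; exact h), e, hv]
  have M : ∀ {x y d v : ZMod p}, y - x = d → χ d = -1 → x + (1 - t) * d = v → third t x y = v :=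
    fun {x y d v} e h hv => by rw [third_neg (by rw [e]; exact h), e, hv]
  rcases quadraticChar_dichotomy (F := ZMod p) h2 with hs | hs <;>
    rcases quadraticChar_dichotomy (F := ZMod p) hw with hw' | hw'
  all_goals obtain rfl : σ = _ := hσ.symm.trans hs
  all_goals obtain rfl : τ = _ := hτ.symm.trans hw'
  all_goals try simp only [neg_neg] at d1 d2 d3 d4 d5 d6 d7 d8
  -- two is a square
  · obtain ⟨g, hg, g0, g1, gc⟩ := htr (-1 + 2 * t) (-1)
      (fun e => mul_ne_zero ht0 hw (by linear_combination ht + e))
      (fun e => mul_ne_zero h2 (mul_ne_zero ht0 ht0) (by linear_combination 2 * ht + e))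
      (fun e => ht0 (mul_self_eq_zero.mp (by linear_combination ht + e)))
      (neg_ne_zero.mpr one_ne_zero) (fun e => h2 (by linear_combination -e))
      (fun e => hw (by linear_combination -e))
    have a1 : third t 1 (-1 + 2 * t) = -1 := P (by ring) d1 (by linear_combination 2 * ht)
    have a2 : third t 0 (-1) = -1 + t := M (by ring) cn (by ring)
    have a3 : third t 0 1 = t := P (by ring) c11 (by ring)
    have a4 : third t (-1 + 2 * t) t = -1 + t := M (by ring) d10 (by linear_combination ht)
    have e := congrArg g (show third t 0 (third t 1 (-1 + 2 * t)) =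
      third t (-1 + 2 * t) (third t 0 1) by rw [a1, a2, a3, a4])
    rw [hg, hg, hg, hg, g0, g1, gc] at e
    have b1 : third t 1 (-1) = -1 + 2 * t := M (by ring) d2 (by ring)
    have b2 : third t 0 (-1 + 2 * t) = 1 + t := M (d := t * (1 + t))
      (by linear_combination -ht) d3 (by linear_combination (-t - 1) * ht)
    have b4 : third t (-1) t = -2 + 2 * t := P (by ring) hw' (by linear_combination ht)
    rw [b1, b2, a3, b4] at e
    exact h7 (by linear_combination ht + (-2 - t) * (-1 : ZMod p) * e)
  · obtain ⟨g, hg, g0, g1, gc⟩ := htr (-1 + 2 * t) (-1)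
      (fun e => mul_ne_zero ht0 hw (by linear_combination ht + e))
      (fun e => mul_ne_zero h2 (mul_ne_zero ht0 ht0) (by linear_combination 2 * ht + e))
      (fun e => ht0 (mul_self_eq_zero.mp (by linear_combination ht + e)))
      (neg_ne_zero.mpr one_ne_zero) (fun e => h2 (by linear_combination -e))
      (fun e => hw (by linear_combination -e))
    have a1 : third t 1 (-1 + 2 * t) = -1 := P (by ring) d1 (by linear_combination 2 * ht)
    have a2 : third t 0 (-1) = -1 + t := M (by ring) cn (by ring)
    have a3 : third t 0 1 = t := P (by ring) c11 (by ring)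
    have a4 : third t (-1 + 2 * t) t = -1 + t := M (by ring) d10 (by linear_combination ht)
    have e := congrArg g (show third t 0 (third t 1 (-1 + 2 * t)) =
      third t (-1 + 2 * t) (third t 0 1) by rw [a1, a2, a3, a4])
    rw [hg, hg, hg, hg, g0, g1, gc] at e
    have b1 : third t 1 (-1) = -1 + 2 * t := M (by ring) d2 (by ring)
    have b2 : third t 0 (-1 + 2 * t) = -2 + t := P (d := t * (1 + t))
      (by linear_combination -ht) d3 (by linear_combination (t + 2) * ht)
    have b4 : third t (-1) t = 1 - t := M (by ring) hw' (by linear_combination -ht)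
    rw [b1, b2, a3, b4] at e
    exact h7 (by linear_combination 4 * ht - (2 * t + 1) * (1 : ZMod p) * e)
  -- two is not a square
  · obtain ⟨g, hg, g0, g1, gc⟩ := htr (-1 + 2 * t) (-1 + t)
      (fun e => mul_ne_zero ht0 hw (by linear_combination ht + e))
      (fun e => mul_ne_zero h2 (mul_ne_zero ht0 ht0) (by linear_combination 2 * ht + e))
      (fun e => ht0 (mul_self_eq_zero.mp (by linear_combination ht + e)))
      (fun e => ht0 (mul_self_eq_zero.mp (by linear_combination ht + e)))
      (fun e => h3 (by linear_combination ht - (t + 1) * e))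
      (fun e => one_ne_zero (α := ZMod p) (by linear_combination -e))
    have a1 : third t 0 (-1 + 2 * t) = 1 + t := M (d := t * (1 + t))
      (by linear_combination -ht) d3 (by linear_combination (-t - 1) * ht + ht - ht)
    have a2 : third t 1 (1 + t) = 2 := M (by ring) ct (by linear_combination -ht)
    have a3 : third t 0 2 = 2 - 2 * t := M (by ring) hs (by ring)
    have a4 : third t 0 1 = t := P (by ring) c11 (by ring)
    have a5 : third t (-1 + 2 * t) t = -1 + t := M (by ring) d10 (by linear_combination ht)
    have a6 : third t 1 (-1 + 2 * t) = 1 + 2 * t := M (d := 2 * (t - 1)) (by ring) d1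
      (by linear_combination -2 * ht + 0 * ht)
    have a7 : third t (1 + t) (1 + 2 * t) = 2 + t := M (by ring) ct (by linear_combination -ht)
    have a8 : third t (-1 + t) (2 + t) = 2 - 2 * t := M
      (d := -1 * ((2 * t - 1) * (2 * t - 1))) (by linear_combination 4 * ht) d11
      (by linear_combination (-4 + 4 * t) * ht)
    have e := congrArg g (show third t 0 (third t 1 (third t 0 (-1 + 2 * t))) =
      third t (third t (-1 + 2 * t) (third t 0 1))
        (third t (third t 0 (-1 + 2 * t)) (third t 1 (-1 + 2 * t))) by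
      rw [a1, a2, a3, a4, a5, a6, a7, a8])
    simp only [hg, g0, g1, gc] at e
    have b1 : third t 0 (-1 + t) = -1 := P (d := t - 1) (by ring) cu (by linear_combination ht)
    have b2 : third t 1 (-1) = 1 - 2 * t := P (by ring) d2 (by ring)
    have b3 : third t 0 (1 - 2 * t) = 2 - t := P (d := -1 * (t * (1 + t)))
      (by linear_combination ht) d4 (by linear_combination (-t - 2) * ht)
    have b5 : third t (-1 + t) t = -1 + 2 * t := P (by ring) c11 (by ring)
    have b6 : third t 1 (-1 + t) = -t := P (d := (t - 1) * (1 + t))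
      (by linear_combination -ht) d5 (by linear_combination (t + 1) * ht)
    have b7 : third t (-1) (-t) = -1 - t := M (by ring) d10 (by linear_combination ht)
    have b8 : third t (-1 + 2 * t) (-1 - t) = -4 + 2 * t := M
      (d := t * ((2 * t - 1) * (2 * t - 1))) (by linear_combination -4 * t * ht) d12
      (by linear_combination (-4 * t * t + 4 * t + 3) * ht)
    rw [b1, b2, b3, a4, b5, b6, b7, b8] at e
    exact pow_ne_zero 3 h3 (by linear_combination 9 * ht - (3 * t + 3) * (-1 : ZMod p) * e)
  · obtain ⟨g, hg, g0, g1, gc⟩ := htr (-t) (1 + t) (neg_ne_zero.mpr ht0)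
      (fun e => hw (by linear_combination -e))
      (fun e => mul_ne_zero h2 ht0 (by linear_combination -e))
      hw (fun e => ht0 (by linear_combination e))
      (fun e => one_ne_zero (α := ZMod p) (by linear_combination e))
    have a1 : third t 0 (-t) = 1 - t := P (by ring) d9 (by linear_combination -ht)
    have a2 : third t 1 (1 - t) = 2 - t := P (by ring) d9 (by linear_combination -ht)
    have a3 : third t 0 (2 - t) = 1 + t := P (d := -1 * ((t - 1) * (1 + t)))
      (by linear_combination ht) d6 (by linear_combination (-t - 1) * ht)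
    have a4 : third t 0 1 = t := P (by ring) c11 (by ring)
    have a5 : third t (-t) t = -2 + t := P (d := t * 2) (by ring) d7 (by linear_combination 2 * ht)
    have a6 : third t 1 (-t) = 2 - 2 * t := P (by ring) d8 (by linear_combination -ht)
    have a7 : third t (1 - t) (2 - 2 * t) = 1 - 2 * t + 0 := M (by ring) d10
      (by linear_combination ht)
    have a8 : third t (-2 + t) (1 - 2 * t + 0) = 1 + t := P
      (d := (t - 1) * ((2 * t - 1) * (2 * t - 1))) (by linear_combination (4 - 4 * t) * ht) d13
      (by linear_combination (4 * t * t - 4 * t - 3) * ht)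
    have e := congrArg g (show third t 0 (third t 1 (third t 0 (-t))) =
      third t (third t (-t) (third t 0 1)) (third t (third t 0 (-t)) (third t 1 (-t))) by
      rw [a1, a2, a3, a4, a5, a6, a7, a8])
    simp only [hg, g0, g1, gc] at e
    have b1 : third t 0 (1 + t) = 2 - t := M (by ring) hw' (by linear_combination -ht)
    have b2 : third t 1 (2 - t) = 1 - t := M (by ring) d10 (by linear_combination ht - 0 * ht)
    have b3 : third t 0 (1 - t) = -t := M (by ring) d10 (by linear_combination ht)
    have b5 : third t (1 + t) t = 2 * t := M (by ring) cn (by ring)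
    have b6 : third t 1 (1 + t) = 2 := M (by ring) ct (by linear_combination -ht)
    have b7 : third t (2 - t) 2 = 3 - t := M (by ring) ct (by linear_combination -ht)
    have b8 : third t (2 * t) (3 - t) = 3 + 2 * t := P
      (d := (t - 1) * ((2 * t - 1) * (2 * t - 1))) (by linear_combination (4 - 4 * t) * ht) d13
      (by linear_combination (4 * t * t - 4 * t - 3) * ht)
    rw [b1, b2, b3, a4, b5, b6, b7, b8] at e
    exact pow_ne_zero 3 h3 (by linear_combination 9 * ht - (6 - 3 * t) * e)

end Cfsg.Agent.Perm.HalfPrimitive
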