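/-
Linear spaces on a prime number of points with a half affine group.

* `false_of_lines` : such a space with long lines has too few automorphisms
-/
import Cfsg.Agent.Lib.Perm.HalfPrimitive.Netto

namespace Cfsg.Agent.Perm.HalfPrimitive

variable {p : ℕ} [Fact p.Prime]

theorem third_self (t x : ZMod p) : third t x x = x := by
  simp [third, IsSquare.zero]

/-- A space of lines on `p` points, invariant under the half affine group, whose automorphisms are
transitive on triangles, does not exist for `p ≠ 3, 7`. -/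
theorem false_of_lines (hp2 : p ≠ 2) (hp3 : p ≠ 3) (hp7 : p ≠ 7) (hn : ¬ IsSquare (-1 : ZMod p))
    (L : ZMod p → ZMod p → ZMod p → Prop) (hne : ∀ x y z, L x y z → x ≠ y ∧ x ≠ z ∧ y ≠ z)
    (hs1 : ∀ x y z, L x y z → L y x z) (hs2 : ∀ x y z, L x y z → L x z y)
    (htrans : ∀ x y z w, L x y z → L x y w → z ≠ w → L y z w)
    (hex : ∀ x y, x ≠ y → ∃ z, L x y z)
    (hprop : ∀ x y, x ≠ y → ∃ z, z ≠ x ∧ z ≠ y ∧ ¬ L x y z)
    (hadd : ∀ b x y z, L x y z → L (x + b) (y + b) (z + b))
    (hmul : ∀ c x y z, c ≠ 0 → IsSquare c → L x y z → L (c * x) (c * y) (c * z))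
    (htr : ∀ c c', c ≠ 0 → c ≠ 1 → ¬ L 0 1 c → c' ≠ 0 → c' ≠ 1 → ¬ L 0 1 c' →
      ∃ g : ZMod p ≃ ZMod p, (∀ x y z, L x y z → L (g x) (g y) (g z)) ∧
        g 0 = 0 ∧ g 1 = 1 ∧ g c = c') : False := by
  classical
  have hp := (Fact.out : p.Prime)
  let ln : ZMod p → ZMod p → Finset (ZMod p) := fun x y =>
    insert x (insert y (Finset.univ.filter fun z => L x y z))
  have mem_ln : ∀ x y z, z ∈ ln x y ↔ z = x ∨ z = y ∨ L x y z := fun x y z => by simp [ln]
  have ln_swap : ∀ x y, ln y x = ln x y := fun x y => Finset.ext fun z => by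
    rw [mem_ln, mem_ln]
    exact ⟨fun h => h.elim (fun e => .inr (.inl e)) fun h => h.elim .inl fun h => .inr (.inr (hs1 _ _ _ h)),
      fun h => h.elim (fun e => .inr (.inl e)) fun h => h.elim .inl fun h => .inr (.inr (hs1 _ _ _ h))⟩
  have ln_sub : ∀ x y z, L x y z → ln x y ⊆ ln x z := fun x y z h w hw => by
    rw [mem_ln] at hw ⊢
    rcases hw with rfl | rfl | hw
    · exact .inl rfl
    · exact .inr (.inr (hs2 _ _ _ h))
    · rcases eq_or_ne w z with rfl | hwz
      · exact .inr (.inl rfl)
      · exact .inr (.inr (htrans _ _ _ _ (hs1 _ _ _ h) (hs1 _ _ _ hw) hwz.symm))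
  have ln_first : ∀ x y z, z ∈ ln x y → z ≠ x → ln x z = ln x y := fun x y z hz hzx => by
    rw [mem_ln] at hz
    rcases hz with rfl | rfl | h
    · exact absurd rfl hzx
    · rfl
    · exact (ln_sub _ _ _ (hs2 _ _ _ h)).antisymm (ln_sub _ _ _ h)
  have ln_eq : ∀ x y a b, a ∈ ln x y → b ∈ ln x y → a ≠ b → ln a b = ln x y := by
    intro x y a b ha hb hab
    rcases eq_or_ne a x with rfl | hax
    · exact ln_first _ _ _ hb hab.symm
    have h1 : ln a x = ln x y := by rw [ln_swap, ln_first _ _ _ ha hax]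
    rw [ln_first a x b (h1 ▸ hb) hab.symm, h1]
  have ln_add : ∀ b x y z, z ∈ ln x y → z + b ∈ ln (x + b) (y + b) := fun b x y z hz => by
    rw [mem_ln] at hz ⊢
    exact hz.elim (fun e => .inl (by rw [e])) fun h =>
      h.elim (fun e => .inr (.inl (by rw [e]))) fun h => .inr (.inr (hadd _ _ _ _ h))
  have ln_mul : ∀ c x y z, c ≠ 0 → IsSquare c → z ∈ ln x y → c * z ∈ ln (c * x) (c * y) :=
    fun c x y z hc hsq hz => by
      rw [mem_ln] at hz ⊢
      exact hz.elim (fun e => .inl (by rw [e])) fun h =>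
        h.elim (fun e => .inr (.inl (by rw [e]))) fun h => .inr (.inr (hmul _ _ _ _ hc hsq h))
  -- no translation fixes a line
  have hshift : ∀ x y b, x ≠ y → (∀ z ∈ ln x y, z + b ∈ ln x y) → b = 0 := by
    intro x y b hxy hb
    by_contra hb0
    have hall : ∀ n : ℕ, x + n * b ∈ ln x y := fun n => by
      induction n with
      | zero => simp [mem_ln]
      | succ n ih =>
        have := hb _ ih
        push_cast
        rwa [add_mul, one_mul, ← add_assoc]
    obtain ⟨z, h1, h2, h3⟩ := hprop x y hxy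
    have := hall ((z - x) / b).val
    rw [ZMod.natCast_zmod_val, div_mul_cancel₀ _ hb0, add_sub_cancel, mem_ln] at this
    exact this.elim h1 fun h => h.elim h2 h3
  have hcomm : ∀ x y b c d, x ≠ y → c ≠ 0 → d ≠ 0 → c ≠ 1 → (∀ z ∈ ln x y, c * z ∈ ln x y) →
      (∀ z ∈ ln x y, d * z + b ∈ ln x y) → b = 0 := by
    intro x y b c d hxy hc hd hc1 hcl hdl
    have himg : (ln x y).image (fun z => d * (c * z) + b) = ln x y := by
      refine Finset.eq_of_subset_of_card_le (fun w hw => ?_) (le_of_eq ?_)
      · obtain ⟨z, hz, rfl⟩ := Finset.mem_image.mp hw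
        exact hdl _ (hcl _ hz)
      · rw [Finset.card_image_of_injective _ fun u v e =>
          mul_left_cancel₀ hc (mul_left_cancel₀ hd (add_right_cancel e))]
    have h0 : c * b - b = 0 := hshift x y _ hxy fun w hw => by
      rw [← himg] at hw
      obtain ⟨z, hz, rfl⟩ := Finset.mem_image.mp hw
      have := hcl _ (hdl _ hz)
      rwa [show c * (d * z + b) = d * (c * z) + b + (c * b - b) by ring] at this
    have : (c - 1) * b = 0 := by linear_combination h0
    exact (mul_eq_zero.mp this).resolve_left (sub_ne_zero.mpr hc1)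
  have hsq_cases : ∀ u v : ZMod p, u ≠ 0 → v ≠ 0 → (IsSquare u ↔ IsSquare v) →
      IsSquare (v / u) := by
    intro u v hu hv h
    rw [← quadraticChar_one_iff_isSquare (div_ne_zero hv hu), div_eq_mul_inv, map_mul]
    have hi : quadraticChar (ZMod p) u⁻¹ = quadraticChar (ZMod p) u := by
      rcases quadraticChar_dichotomy hu with e | e
      · have := map_mul (quadraticChar (ZMod p)) u u⁻¹
        rw [mul_inv_cancel₀ hu, map_one, e] at this
        rw [e]; linarith
      · have := map_mul (quadraticChar (ZMod p)) u u⁻¹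
        rw [mul_inv_cancel₀ hu, map_one, e] at this
        rw [e]; linarith
    rw [hi]
    rcases quadraticChar_dichotomy hu with e | e <;> rcases quadraticChar_dichotomy hv with e' | e'
    · rw [e, e']; rfl
    · exact absurd (h.mp ((quadraticChar_one_iff_isSquare hu).mp e))
        (quadraticChar_neg_one_iff_not_isSquare.mp e')
    · exact absurd (h.mpr ((quadraticChar_one_iff_isSquare hv).mp e'))
        (quadraticChar_neg_one_iff_not_isSquare.mp e)
    · rw [e, e']; rfl
  -- the squares form half of the field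
  let Q : Finset (ZMod p) := Finset.univ.filter fun c => c ≠ 0 ∧ IsSquare c
  have hQ : 2 * Q.card = p - 1 := by
    have h1 : Q.image (fun c => -c) = (Finset.univ.erase 0).filter fun c => ¬ IsSquare c := by
      ext v
      simp only [Q, Finset.mem_image, Finset.mem_filter, Finset.mem_univ, true_and, Finset.mem_erase,
        and_true]
      constructor
      · rintro ⟨c, ⟨hc, hsq⟩, rfl⟩
        refine ⟨neg_ne_zero.mpr hc, fun h => hn ?_⟩
        have := h.div hsq
        rwa [neg_div, div_self hc] at this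
      · rintro ⟨hv, hns⟩
        refine ⟨-v, ⟨neg_ne_zero.mpr hv, ?_⟩, neg_neg v⟩
        have := hsq_cases (-1) v (neg_ne_zero.mpr one_ne_zero) hv
          ⟨fun h => absurd h hn, fun h => absurd h hns⟩
        rwa [div_neg, div_one] at this
    have h2 := Finset.card_filter_add_card_filter_not
      (s := (Finset.univ : Finset (ZMod p)).erase 0) (fun c => IsSquare c)
    rw [← h1, Finset.card_image_of_injective _ neg_injective, Finset.card_erase_of_mem
      (Finset.mem_univ _), Finset.card_univ, ZMod.card,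
      show ((Finset.univ : Finset (ZMod p)).erase 0).filter (fun c => IsSquare c) = Q by
        ext; simp [Q]] at h2
    omega
  -- no square fixes a line through the origin
  have hfree : ∀ x c, x ≠ 0 → c ≠ 0 → IsSquare c → c * x ∈ ln 0 x → c = 1 := by
    intro x c hx hc hsq hcx
    by_contra hc1
    set l := ln 0 x with hl
    have hcl : ∀ z ∈ l, c * z ∈ l := fun z hz => by
      have := ln_mul c 0 x z hc hsq hz
      rwa [mul_zero, ln_first 0 x (c * x) hcx (mul_ne_zero hc hx)] at this
    have hxl : x ∈ l := (mem_ln _ _ _).mpr (.inr (.inl rfl))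
    have h0l : (0 : ZMod p) ∈ l := (mem_ln _ _ _).mpr (.inl rfl)
    -- a translated line through the origin
    have hline : ∀ d w v, d ≠ 0 → IsSquare d → w ∈ l.erase x → v ∈ l →
        d * (v - x) ∈ ln 0 (d * (w - x)) := by
      intro d w v hd hdsq hw hv
      rw [Finset.mem_erase] at hw
      have h1 := ln_eq 0 x x w hxl hw.2 hw.1.symm
      rw [← hl] at h1
      rw [← h1] at hv
      have h2 := ln_mul d _ _ _ hd hdsq (ln_add (-x) _ _ _ hv)
      simpa [sub_eq_add_neg, mul_zero] using h2
    let f : ZMod p × ZMod p → ZMod p := fun q => q.1 * (q.2 - x)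
    have hinj : Set.InjOn f ↑(Q ×ˢ l.erase x) := by
      rintro ⟨d, w⟩ hq ⟨d', w'⟩ hq' e
      simp only [Finset.coe_product, Set.mem_prod, Finset.mem_coe, Q, Finset.mem_filter,
        Finset.mem_univ, true_and] at hq hq'
      simp only [f] at e
      obtain ⟨⟨hd, hdsq⟩, hw⟩ := hq
      obtain ⟨⟨hd', hdsq'⟩, hw'⟩ := hq'
      have hdd : d / d' ≠ 0 := div_ne_zero hd hd'
      have hb := hcomm 0 x (x - d / d' * x) c (d / d') hx.symm hc hdd hc1 hcl fun v hv => ?_
      · have h1 : (1 - d / d') * x = 0 := by linear_combination hb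
        have h2 : d = d' := ((div_eq_one_iff_eq hd').mp
          (sub_eq_zero.mp ((mul_eq_zero.mp h1).resolve_right hx)).symm)
        subst h2
        rw [sub_left_injective (mul_left_cancel₀ hd e)]
      · have h1 := hline d w v hd hdsq hw hv
        rw [e] at h1
        have hwx : w' - x ≠ 0 := sub_ne_zero.mpr (Finset.ne_of_mem_erase hw')
        have h2 := ln_mul d'⁻¹ _ _ _ (inv_ne_zero hd') hdsq'.inv h1
        rw [mul_zero, ← mul_assoc d'⁻¹ d', inv_mul_cancel₀ hd', one_mul] at h2
        have h3 := ln_add x _ _ _ h2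
        rw [zero_add, sub_add_cancel, ln_eq 0 x x w' hxl (Finset.mem_of_mem_erase hw')
          (Finset.ne_of_mem_erase hw').symm] at h3
        convert h3 using 1
        ring
    have hsub : (Q ×ˢ l.erase x).image f ⊆ (Finset.univ : Finset (ZMod p)) \ l := by
      intro z hz
      obtain ⟨⟨d, w⟩, hq, rfl⟩ := Finset.mem_image.mp hz
      simp only [Finset.mem_product, Q, Finset.mem_filter, Finset.mem_univ, true_and] at hq
      obtain ⟨⟨hd, hdsq⟩, hw⟩ := hq
      refine Finset.mem_sdiff.mpr ⟨Finset.mem_univ _, fun hz' => hx ?_⟩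
      have hne0 : d * (w - x) ≠ 0 :=
        mul_ne_zero hd (sub_ne_zero.mpr (Finset.ne_of_mem_erase hw))
      have hb := hcomm 0 x (-(d * x)) c d hx.symm hc hd hc1 hcl fun v hv => by
        have h1 := hline d w v hd hdsq hw hv
        rw [ln_first 0 x (d * (w - x)) hz' hne0] at h1
        convert h1 using 1
        ring
      exact (mul_eq_zero.mp (neg_eq_zero.mp hb)).resolve_left hd
    have hcard := Finset.card_le_card hsub
    rw [Finset.card_image_of_injOn hinj, Finset.card_product,
      Finset.card_sdiff_of_subset (Finset.subset_univ _), Finset.card_univ, ZMod.card,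
      Finset.card_erase_of_mem hxl] at hcard
    obtain ⟨z, hz⟩ := hex 0 x hx.symm
    have h3 : 2 < l.card := Finset.two_lt_card.mpr ⟨0, h0l, x, hxl, z, (mem_ln _ _ _).mpr
      (.inr (.inr hz)), hx.symm, (hne _ _ _ hz).2.1, (hne _ _ _ hz).2.2⟩
    have : l.card ≤ p := (Finset.card_le_univ _).trans (ZMod.card p).le
    have : Q.card * 2 ≤ Q.card * (l.card - 1) := Nat.mul_le_mul le_rfl (by omega)
    omega
  -- so the lines have three points
  have hclass : ∀ x z, L 0 x z → (IsSquare x ↔ ¬ IsSquare z) := by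
    intro x z h
    obtain ⟨hx, hz, hxz⟩ := hne _ _ _ h
    constructor
    · intro h1 h2
      have := hfree x (z / x) hx.symm (div_ne_zero hz.symm hx.symm)
        (hsq_cases x z hx.symm hz.symm ⟨fun _ => h2, fun _ => h1⟩)
        (by rw [div_mul_cancel₀ _ hx.symm]; exact (mem_ln _ _ _).mpr (.inr (.inr h)))
      exact hxz ((div_eq_one_iff_eq hx.symm).mp this).symm
    · intro h2
      by_contra h1
      have := hfree x (z / x) hx.symm (div_ne_zero hz.symm hx.symm)
        (hsq_cases x z hx.symm hz.symm ⟨fun h' => absurd h' h1, fun h' => absurd h' h2⟩)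
        (by rw [div_mul_cancel₀ _ hx.symm]; exact (mem_ln _ _ _).mpr (.inr (.inr h)))
      exact hxz ((div_eq_one_iff_eq hx.symm).mp this).symm
  have huniq : ∀ x y z w, L x y z → L x y w → z = w := by
    intro x y z w hz hw
    by_contra hzw
    have h1 := hadd (-x) _ _ _ hz
    have h2 := hadd (-x) _ _ _ hw
    have h3 := hadd (-x) _ _ _ (htrans _ _ _ _ (hs1 _ _ _ hz) (hs1 _ _ _ hw) hzw)
    rw [add_neg_cancel] at h1 h2 h3
    have a := hclass _ _ h1
    have b := hclass _ _ h2
    have c := hclass _ _ h3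
    tauto
  obtain ⟨t, ht1⟩ := hex 0 1 zero_ne_one
  have htn : ¬ IsSquare t := (hclass _ _ ht1).mp IsSquare.one
  have ht0 : t ≠ 0 := (hne _ _ _ ht1).2.1.symm
  have pos : ∀ u, u ≠ 0 → IsSquare u → L 0 u (u * t) := fun u hu hsq => by
    simpa using hmul u 0 1 t hu hsq ht1
  have neg' : ∀ u, u ≠ 0 → ¬ IsSquare u → L 0 u (u / t) := fun u hu hsq => by
    have h := pos (u / t) (div_ne_zero hu ht0)
      (hsq_cases t u ht0 hu ⟨fun h => absurd h htn, fun h => absurd h hsq⟩)
    rw [div_mul_cancel₀ _ ht0] at h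
    exact hs2 _ _ _ h
  have ht : t * t = t - 1 := by
    have h1 := hadd (-1) _ _ _ ht1
    rw [zero_add, add_neg_cancel] at h1
    have h2 := huniq _ _ _ _ (hs1 _ _ _ h1) (neg' (-1) (neg_ne_zero.mpr one_ne_zero) hn)
    field_simp at h2
    linear_combination h2
  have hthird : ∀ x y, x ≠ y → L x y (third t x y) := by
    intro x y hxy
    have hu : y - x ≠ 0 := sub_ne_zero.mpr hxy.symm
    rcases quadraticChar_dichotomy (F := ZMod p) hu with h | h
    · rw [third_pos h]
      have := hadd x _ _ _ (pos _ hu ((quadraticChar_one_iff_isSquare hu).mp h))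
      rwa [zero_add, sub_add_cancel, add_comm, mul_comm] at this
    · rw [third_neg h]
      have := hadd x _ _ _ (neg' _ hu (quadraticChar_neg_one_iff_not_isSquare.mp h))
      rw [zero_add, sub_add_cancel] at this
      convert this using 1
      field_simp
      linear_combination (x - y) * ht
  refine no_triangle_transitive hp2 hp3 hp7 t ht htn hn fun c c' hc0 hc1 hct hc0' hc1' hct' => ?_
  obtain ⟨g, hg, g0, g1, gc⟩ := htr c c' hc0 hc1 (fun h => hct (huniq _ _ _ _ h ht1)) hc0' hc1'
    (fun h => hct' (huniq _ _ _ _ h ht1))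
  refine ⟨g, fun x y => ?_, g0, g1, gc⟩
  rcases eq_or_ne x y with rfl | hxy
  · rw [third_self, third_self]
  · exact huniq _ _ _ _ (hg _ _ _ (hthird x y hxy)) (hthird _ _ (g.injective.ne hxy))

end Cfsg.Agent.Perm.HalfPrimitive
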